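import Cfsg.Agent.SB.SporA.Tool
import Cfsg.Agent.TAB.Eng.Fin
import Cfsg.Agent.TAB.Eng.Map

/-!
# S5765, sporadic rows from the character tables (helper56)

For a subgroup `S` and a character `χ` the sum of the values of `χ` on `S` is not negative.  Combinations of such
inequalities bound the order of a Hall subgroup of `S` and the number of the elements of each type in `S`.
-/

set_option autoImplicit false

namespace Cfsg.Agent.SB.SporL

open Subgroup Cfsg Cfsg.Agent.H786.FC Cfsg.Agent.SB.Spor Cfsg.Agent.TAB.Eng Cfsg.Agent.TAB.Use Finset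

universe u

variable {G : Type u} [Group G] {D : Dat} {T : TD G D} {rows : List (List ℤ)}

/-- the number of the elements of type `t` in `S` -/
noncomputable def num (T : TD G D) (S : Subgroup G) (t : ℕ) : ℕ := Nat.card {s : S // T.ty s = t}

theorem sum_num (S : Subgroup G) [Fintype S] {M : Type*} [AddCommMonoid M] (F : ℕ → M) :
    ∑ s : S, F (T.ty s) = ∑ t ∈ range D.n, num T S t • F t := by
  classical
  rw [← Finset.sum_fiberwise_of_maps_to (s := Finset.univ) (t := range D.n) (g := fun s : S => T.ty s)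
    (fun g _ => mem_range.2 (T.lt g))]
  refine Finset.sum_congr rfl fun t _ => ?_
  rw [Finset.sum_congr rfl (g := fun _ => F t) fun g hg => by rw [(Finset.mem_filter.1 hg).2], Finset.sum_const,
    num, Nat.card_eq_fintype_card, Fintype.card_subtype]

/-- the sums of `f` over the subgroups are not negative -/
def PosF (T : TD G D) (f : ℕ → ℤ) : Prop := ∀ S : Subgroup G, 0 ≤ ∑ t ∈ range D.n, (num T S t : ℤ) * f t

theorem sum_char [Finite G] {χ : G → ℂ} (h : IsCharacter G χ) (S : Subgroup G) [Fintype S] :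
    ∃ m : ℕ, ∑ s : S, χ s = m := by
  obtain ⟨n, ρ, h1⟩ := Characters.Core.isCharacter_comp S.subtype h
  have h0 : (Nat.card S : ℂ) ≠ 0 := Nat.cast_ne_zero.2 Nat.card_pos.ne'
  have := invertibleOfNonzero h0
  have h2 := ρ.card_inv_mul_sum_char_eq_finrank
  rw [h1, inv_mul_eq_iff_eq_mul₀ h0] at h2
  exact ⟨Nat.card S * Module.finrank ℂ ρ.invariants, by rw [Nat.cast_mul]; exact h2⟩

/-- the relations are sums of characters -/
noncomputable def okRel (R : Rows) : Bool :=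
  allL (fun r => allL (fun p => decide (p.1 < R.n) && decide (0 ≤ p.2)) r.1) R.rel

theorem pos_of_tab [Finite G] {R : Rows} (h : Tab T R) (hc : okRel R = true) :
    ∀ r ∈ R.rel.map Prod.snd, PosF T (nth r) := by
  obtain ⟨χ, hE, hR⟩ := h
  intro r hr' S
  obtain ⟨r, hr, rfl⟩ := List.mem_map.1 hr'
  have := Fintype.ofFinite S
  have h1 : ∀ c : List (ℕ × ℤ), (∀ p ∈ c, p.1 < R.n ∧ 0 ≤ p.2) →
      ∃ m : ℕ, ∑ s : S, (c.map fun p => (p.2 : ℂ) * χ p.1 s).sum = m := by
    intro c hc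
    induction c with
    | nil => exact ⟨0, by simp⟩
    | cons p c ih =>
      obtain ⟨m, hm⟩ := ih fun q hq => hc q (List.mem_cons_of_mem _ hq)
      obtain ⟨h2, h3⟩ := hc p List.mem_cons_self
      obtain ⟨k, hk⟩ := sum_char (Characters.Core.isIrr_isCharacter (hE.irr _ h2)) S
      obtain ⟨a, ha⟩ := Int.eq_ofNat_of_zero_le h3
      refine ⟨a * k + m, ?_⟩
      simp only [List.map_cons, List.sum_cons, Finset.sum_add_distrib, hm, ← Finset.mul_sum, hk, ha]
      push_cast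
      rfl
  obtain ⟨m, hm⟩ := h1 r.1 fun p hp => by simpa using allL_spec (allL_spec hc r hr) p hp
  rw [Finset.sum_congr rfl fun (s : S) _ => hR r hr (s : G),
    sum_num S fun t => ((r.2.getD t 0 : ℤ) : ℂ)] at hm
  have h2 : ((∑ t ∈ range D.n, (num T S t : ℤ) * nth r.2 t : ℤ) : ℂ) = ((m : ℤ) : ℂ) := by
    push_cast
    rw [← hm]
    exact Finset.sum_congr rfl fun t _ => by rw [nsmul_eq_mul, nth_eq]
  rw [Int.cast_injective h2]
  exact Int.natCast_nonneg m

/-- a combination with natural coefficients -/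
noncomputable def cmb (rows : List (List ℤ)) (c : List (ℕ × ℕ)) : List ℤ :=
  comb rows (c.map fun p => (Int.ofNat p.1, p.2))

theorem posF_cmb (h : ∀ r ∈ rows, PosF T (nth r)) (c : List (ℕ × ℕ)) : PosF T (nth (cmb rows c)) := by
  intro S
  induction c with
  | nil => exact (Finset.sum_eq_zero fun t _ => mul_zero _).ge
  | cons p c ih =>
    have h1 : 0 ≤ ∑ t ∈ range D.n, (num T S t : ℤ) * nth (ntd rows [] p.2) t := by
      rcases ntd_mem rows [] p.2 with h2 | h2
      · rw [h2]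
        exact (Finset.sum_eq_zero fun t _ => mul_zero _).ge
      · exact h _ h2 S
    have h2 : ∀ t, nth (cmb rows (p :: c)) t = p.1 * nth (ntd rows [] p.2) t + nth (cmb rows c) t :=
      fun t => nth_comb_cons rows _ _ t
    simp only [h2, mul_add, Finset.sum_add_distrib, mul_left_comm _ (p.1 : ℤ), ← Finset.mul_sum]
    exact add_nonneg (mul_nonneg (Int.natCast_nonneg _) h1) ih

/-- the numbers of the elements of the types and some characters -/
structure Hyp0 (T : TD G D) (rows : List (List ℤ)) : Prop where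
  mass : T.Mass
  zero : ∀ g, T.ty g = 0 ↔ g = 1
  pos : ∀ r ∈ rows, PosF T (nth r)

/-- what is needed from a table -/
structure Hyp (T : TD G D) (rows : List (List ℤ)) : Prop extends Hyp0 T rows where
  unif : ∀ g h, (orderOf g).Prime → T.ty g = T.ty h → ∃ k : ℕ, IsConj (g ^ k) h

/-- the same with bounds for the densities -/
structure Hyq (T : TD G D) (rows : List (List ℤ)) (ν : ℕ → ℕ) : Prop extends Hyp0 T rows where
  den : ∀ (S : Subgroup G) (c : G), (orderOf c).Prime → ν (T.ty c) * hc S c ≤ Nat.card G * num T S (T.ty c)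

/-- no prime of `ex` divides the order of `S` -/
def Ex (S : Subgroup G) (ex : List ℕ) : Prop := ∀ p ∈ ex, ¬ p ∣ Nat.card S

theorem Ex.nil (S : Subgroup G) : Ex S [] := fun _ h => absurd h List.not_mem_nil

theorem Ex.cons {S : Subgroup G} {p : ℕ} {ex : List ℕ} (h : ¬ p ∣ Nat.card S) (h' : Ex S ex) : Ex S (p :: ex) :=
  List.forall_mem_cons.2 ⟨h, h'⟩

/-- the type `t` is trivial or does not occur -/
noncomputable def skip (D : Dat) (ex : List ℕ) (t : ℕ) : Bool :=
  Nat.beq t 0 || !allL (fun p => !Nat.beq (D.ord t % p) 0) ex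

theorem num_skip {S : Subgroup G} {ex : List ℕ} (h : Ex S ex) {t : ℕ} (ht : t ≠ 0) (hs : skip D ex t = true) :
    num T S t = 0 := by
  rw [num, Nat.card_eq_zero]
  left
  refine ⟨fun s => ?_⟩
  have h1 : allL (fun p => !Nat.beq (D.ord t % p) 0) ex = true := by
    have h2 : ∀ l : List ℕ, (∀ p ∈ l, ¬ p ∣ D.ord t) → allL (fun p => !Nat.beq (D.ord t % p) 0) l = true := by
      intro l hl
      induction l with
      | nil => rfl
      | cons p l ih =>
        have h3 : Nat.beq (D.ord t % p) 0 = false := by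
          cases h4 : Nat.beq (D.ord t % p) 0
          · rfl
          · exact absurd (Nat.dvd_of_mod_eq_zero (Nat.eq_of_beq_eq_true h4)) (hl p List.mem_cons_self)
        show cond (!Nat.beq (D.ord t % p) 0) _ false = true
        rw [h3]
        exact ih fun q hq => hl q (List.mem_cons_of_mem _ hq)
    refine h2 ex fun p hp hd => h p hp (hd.trans ?_)
    rw [← s.2, ← T.ord]
    exact S.orderOf_dvd_natCard s.1.2
  rw [skip, h1] at hs
  exact ht (Nat.eq_of_beq_eq_true (by simpa using hs))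

/-- the check of a certificate -/
noncomputable def chkC (D : Dat) (rows : List (List ℤ)) (ex : List ℕ) (c : List (ℕ × ℕ)) (w : ℕ → ℤ) (v : ℤ) : Bool :=
  frcLZ (cmb rows c) fun Ψ => decide (nth Ψ 0 < v) &&
    allL (fun t => skip D ex t || decide (nth Ψ t + w t ≤ 0)) (List.range D.n)

theorem Hyp0.n_pos (_ : Hyp0 T rows) : 0 < D.n := Nat.lt_of_le_of_lt (Nat.zero_le _) (T.lt 1)

theorem Hyp0.num_zero (H : Hyp0 T rows) (S : Subgroup G) : num T S 0 = 1 := by
  rw [num, Nat.card_eq_one_iff_exists]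
  exact ⟨⟨1, (H.zero _).2 rfl⟩, fun s => Subtype.ext (Subtype.ext ((H.zero _).1 s.2))⟩

theorem card_eq_sum [Finite G] (S : Subgroup G) : Nat.card S = ∑ t ∈ range D.n, num T S t := by
  have := Fintype.ofFinite S
  have h := sum_num (T := T) S fun _ => 1
  simpa [Nat.card_eq_fintype_card] using h

/-- **the inequality of a certificate** -/
theorem Hyp0.lp (H : Hyp0 T rows) {S : Subgroup G} {ex : List ℕ} (hx : Ex S ex) {c : List (ℕ × ℕ)} {w : ℕ → ℤ} {v : ℤ}
    (h : chkC D rows ex c w v = true) : ∑ t ∈ (range D.n).erase 0, (num T S t : ℤ) * w t < v := by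
  rw [chkC, frcLZ_eq, Bool.and_eq_true, decide_eq_true_eq] at h
  have h1 := posF_cmb H.pos c S
  rw [← Finset.add_sum_erase _ _ (mem_range.2 H.n_pos), H.num_zero] at h1
  have h2 : ∑ t ∈ (range D.n).erase 0, ((num T S t : ℤ) * nth (cmb rows c) t + (num T S t : ℤ) * w t) ≤ 0 := by
    refine Finset.sum_nonpos fun t ht => ?_
    obtain ⟨h3, h4⟩ := Finset.mem_erase.1 ht
    have h5 := allL_spec h.2 t (List.mem_range.2 (mem_range.1 h4))
    rw [Bool.or_eq_true, decide_eq_true_eq] at h5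
    rcases h5 with h5 | h5
    · rw [num_skip hx h3 h5]
      simp
    · rw [← mul_add]
      exact mul_nonpos_of_nonneg_of_nonpos (Int.natCast_nonneg _) h5
  rw [Finset.sum_add_distrib] at h2
  have h3 := h.1
  push_cast at h1
  linarith

variable [Finite G]

theorem Hyp0.sum_erase (H : Hyp0 T rows) (S : Subgroup G) :
    ∑ t ∈ (range D.n).erase 0, (num T S t : ℤ) = Nat.card S - 1 := by
  rw [card_eq_sum (T := T) S, ← Finset.add_sum_erase _ _ (mem_range.2 H.n_pos), H.num_zero]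
  push_cast
  ring

/-- the check of the bound `B` for the order -/
noncomputable def chkS (D : Dat) (rows : List (List ℤ)) (ex : List ℕ) (c : List (ℕ × ℕ)) (M B : ℕ) : Bool :=
  chkC D rows ex c (fun _ => M) (M * B : ℕ)

/-- the order of a subgroup without elements of the orders in `ex` -/
theorem Hyp0.size (H : Hyp0 T rows) {S : Subgroup G} {ex : List ℕ} (hx : Ex S ex) {c : List (ℕ × ℕ)} {M B : ℕ}
    (h : chkS D rows ex c M B = true) : Nat.card S ≤ B := by
  have h1 := H.lp hx h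
  rw [← Finset.sum_mul, H.sum_erase, Nat.cast_mul, mul_comm] at h1
  have h2 := lt_of_mul_lt_mul_left h1 (Int.natCast_nonneg M)
  omega

/-- the check of the bound `x.2.1` for the type `x.1` -/
noncomputable def chkT (D : Dat) (rows : List (List ℤ)) (ex : List ℕ) (B : ℕ)
    (x : ℕ × ℕ × ℕ × ℕ × List (ℕ × ℕ)) : Bool :=
  !Nat.beq x.1 0 && decide (x.1 < D.n) && decide (0 < D.cnt x.1) &&
    chkC D rows ex x.2.2.2.2 (fun t => cond (Nat.beq t x.1) (x.2.2.1 : ℤ) 0 - x.2.2.2.1)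
      ((x.2.2.1 * (x.2.1 + 1) : ℕ) - (x.2.2.2.1 * B : ℕ))

theorem Hyp0.num_le (H : Hyp0 T rows) {S : Subgroup G} {ex : List ℕ} (hx : Ex S ex) {B : ℕ} (hB : Nat.card S ≤ B)
    {x : ℕ × ℕ × ℕ × ℕ × List (ℕ × ℕ)} (h : chkT D rows ex B x = true) :
    0 < D.cnt x.1 ∧ num T S x.1 ≤ x.2.1 := by
  obtain ⟨t, A, M, β, c⟩ := x
  simp only [chkT, Bool.and_eq_true, decide_eq_true_eq, Bool.not_eq_true'] at h
  obtain ⟨⟨⟨h0, h1⟩, h2⟩, h3⟩ := h
  refine ⟨h2, ?_⟩
  have h4 := H.lp hx h3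
  have ht : t ≠ 0 := fun e => by
    rw [e] at h0
    cases h0
  have h5 : ∀ s, (num T S s : ℤ) * (cond (Nat.beq s t) (M : ℤ) 0 - β) =
      (if s = t then (num T S s : ℤ) * M else 0) - (num T S s : ℤ) * β := fun s => by
    split_ifs with h6
    · rw [h6, Nat.beq_refl, cond_true, mul_sub]
    · have h7 : Nat.beq s t = false := by
        cases h8 : Nat.beq s t
        · rfl
        · exact absurd (Nat.eq_of_beq_eq_true h8) h6
      rw [h7, cond_false]
      ring
  simp only [h5, Finset.sum_sub_distrib, Finset.sum_ite_eq', ← Finset.sum_mul, H.sum_erase,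
    Finset.mem_erase.2 ⟨ht, mem_range.2 h1⟩, if_true] at h4
  push_cast at h4
  have h6 : ((Nat.card S : ℤ) - 1) * β ≤ β * B := by
    rw [mul_comm]
    exact mul_le_mul_of_nonneg_left (by omega) (Int.natCast_nonneg _)
  have h7 : (M : ℤ) * num T S t < M * (A + 1) := by linarith
  have h8 := lt_of_mul_lt_mul_left h7 (Int.natCast_nonneg M)
  show num T S t ≤ A
  omega

/-- the density of a type -/
theorem Hyp.hc_le (H : Hyp T rows) (S : Subgroup G) {c : G} (hp : (orderOf c).Prime) :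
    D.cnt (T.ty c) * hc S c ≤ Nat.card G * num T S (T.ty c) := by
  have := Fintype.ofFinite {h : G // T.ty h = T.ty c}
  have h1 : D.cnt (T.ty c) * hc S c ≤ ∑ h : {h : G // T.ty h = T.ty c}, hc S h := by
    rw [← H.mass.2 _ (T.lt c), Nat.card_eq_fintype_card, ← smul_eq_mul]
    refine Finset.card_nsmul_le_sum _ _ _ fun h _ => ?_
    obtain ⟨k, hk⟩ := H.unif c h hp h.2.symm
    obtain ⟨g, hg⟩ := isConj_iff.1 hk
    rw [← hg, hc_conj]
    exact hc_le_of_mem S (npow_mem_zpowers c k)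
  refine h1.trans ?_
  have h2 : ∑ h : {h : G // T.ty h = T.ty c}, hc S h =
      Nat.card (Σ h : {h : G // T.ty h = T.ty c}, {g : G // g⁻¹ * (h : G) * g ∈ S}) := by
    rw [Nat.card_sigma]
    rfl
  rw [h2, num, ← Nat.card_prod]
  refine Nat.card_le_card_of_injective (fun q => (q.2.1, ⟨⟨_, q.2.2⟩, ?_⟩)) ?_
  · have h3 := T.conj q.1.1 q.2.1⁻¹
    rw [inv_inv] at h3
    exact h3.trans q.1.2
  · rintro ⟨⟨a, ha⟩, ⟨g, hg⟩⟩ ⟨⟨b, hb⟩, ⟨g', hg'⟩⟩ hab
    obtain ⟨e1, e2⟩ := Prod.mk.inj hab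
    obtain rfl : g = g' := e1
    have e3 : g⁻¹ * a * g = g⁻¹ * b * g := congrArg (fun z => ((z.1 : S) : G)) e2
    obtain rfl : a = b := mul_left_cancel (mul_right_cancel e3)
    rfl

/-- every type of prime order occurs in the list -/
noncomputable def cov (D : Dat) (L : List ℕ) : Bool :=
  allL (fun t => Nat.beq (D.ord t) 1 || L.any (Nat.beq t) ||
    [2, 3, 5, 7, 11, 13].any fun d => Nat.beq (D.ord t % d) 0 && Nat.blt d (D.ord t)) (List.range D.n)

omit [Finite G] in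
theorem mem_of_cov {L : List ℕ} (h : cov D L = true) {c : G} (hp : (orderOf c).Prime) : T.ty c ∈ L := by
  have h1 := allL_spec h _ (List.mem_range.2 (T.lt c))
  rw [← T.ord] at h1
  simp only [Bool.or_eq_true, List.any_eq_true, Bool.and_eq_true] at h1
  rcases h1 with (h1 | ⟨t, h1, h2⟩) | ⟨d, h1, h2, h3⟩
  · exact absurd (Nat.eq_of_beq_eq_true h1) hp.one_lt.ne'
  · exact Nat.eq_of_beq_eq_true h2 ▸ h1
  · have h4 := (Nat.dvd_prime hp).1 (Nat.dvd_of_mod_eq_zero (Nat.eq_of_beq_eq_true h2))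
    have h5 : d < orderOf c := Nat.blt_eq ▸ h3
    have h6 : d ≠ 1 := by
      rintro rfl
      simp at h1
    omega

/-- an upper bound of `K A (A / n) ^ e` -/
def term (K e A n : ℕ) : ℕ := K * A ^ (e + 1) / n ^ e + 1

theorem term_le {K e A n : ℕ} (hn : 0 < n) : (K : ℚ) * (A * ((A : ℚ) / n) ^ e) ≤ term K e A n := by
  have h1 : K * A ^ (e + 1) ≤ term K e A n * n ^ e := (Nat.lt_mul_div_succ _ (pow_pos hn e)).le.trans (by
    rw [mul_comm]; rfl)
  have h2 : (0 : ℚ) < (n : ℚ) ^ e := by positivity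
  rw [div_pow, ← mul_div_assoc, ← mul_div_assoc, div_le_iff₀ h2, ← pow_succ']
  exact_mod_cast h1

theorem Hyp.hyq (H : Hyp T rows) : Hyq T rows D.cnt := ⟨H.toHyp0, fun S _ hp => H.hc_le S hp⟩

theorem Hyq.sum_le {ν : ℕ → ℕ} (H : Hyq T rows ν) {S : Subgroup G} (K e : ℕ)
    (L : List (ℕ × ℕ × ℕ × ℕ × List (ℕ × ℕ))) (hL : ∀ x ∈ L, 0 < ν x.1 ∧ num T S x.1 ≤ x.2.1) : ∀ P : Finset G,
      (∀ c ∈ P, c ∈ S ∧ (orderOf c).Prime ∧ T.ty c ∈ L.map Prod.fst) →
      (K : ℚ) * ∑ c ∈ P, ((hc S c : ℚ) / Nat.card G) ^ e ≤ ((L.map fun x => term K e x.2.1 (ν x.1)).sum : ℕ) := by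
  classical
  induction L with
  | nil =>
    intro P hP
    rw [Finset.eq_empty_of_forall_notMem fun c hc => List.not_mem_nil (hP c hc).2.2]
    simp
  | cons x L ih =>
    intro P hP
    obtain ⟨h0, h1⟩ := hL x List.mem_cons_self
    rw [← Finset.sum_filter_add_sum_filter_not P fun c => T.ty c = x.1, mul_add, List.map_cons, List.sum_cons,
      Nat.cast_add]
    refine add_le_add (le_trans (mul_le_mul_of_nonneg_left ?_ (Nat.cast_nonneg K)) (term_le h0))
      (ih (fun y hy => hL y (List.mem_cons_of_mem _ hy)) _ fun c hc => ?_)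
    · have h2 : (P.filter fun c => T.ty c = x.1).card ≤ x.2.1 := by
        refine le_trans ?_ h1
        rw [num, ← Nat.card_eq_finsetCard]
        exact Nat.card_le_card_of_injective (fun c => ⟨⟨c.1, (hP _ (Finset.mem_filter.1 c.2).1).1⟩,
          (Finset.mem_filter.1 c.2).2⟩) fun a b hab => Subtype.ext (congrArg (fun z => ((z.1 : S) : G)) hab)
      have h3 : ∀ c ∈ P.filter fun c => T.ty c = x.1,
          ((hc S c : ℚ) / Nat.card G) ^ e ≤ ((x.2.1 : ℚ) / ν x.1) ^ e := fun c hc => by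
        obtain ⟨h4, h5⟩ := Finset.mem_filter.1 hc
        refine pow_le_pow_left₀ (by positivity) ?_ e
        have h6 := (H.den S c (hP c h4).2.1).trans (Nat.mul_le_mul_left _ (h5 ▸ h1))
        rw [h5] at h6
        rw [div_le_div_iff₀ (by exact_mod_cast Nat.card_pos) (by exact_mod_cast h0), mul_comm, mul_comm (x.2.1 : ℚ)]
        exact_mod_cast h6
      refine (Finset.sum_le_card_nsmul _ _ _ h3).trans ?_
      rw [nsmul_eq_mul]
      exact mul_le_mul_of_nonneg_right (by exact_mod_cast h2) (by positivity)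
    · obtain ⟨h2, h3⟩ := Finset.mem_filter.1 hc
      obtain ⟨h4, h5, h6⟩ := hP c h2
      exact ⟨h4, h5, (List.mem_cons.1 h6).resolve_left h3⟩

/-- the numerical condition for seven tuples -/
noncomputable def fin7 (D : Dat) (K B : ℕ) (L : List (ℕ × ℕ × ℕ × ℕ × List (ℕ × ℕ))) : Bool :=
  cov D (L.map Prod.fst) &&
    Nat.blt ((L.map fun x => term K 4 x.2.1 (D.cnt x.1)).sum + 6 * term K 4 B D.N) K

theorem Hyp.seven (H : Hyp T rows) {S : Subgroup G} {ex : List ℕ} (hx : Ex S ex) {B K : ℕ} (hB : Nat.card S ≤ B)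
    {L : List (ℕ × ℕ × ℕ × ℕ × List (ℕ × ℕ))} (h : allL (chkT D rows ex B) L = true) (hf : fin7 D K B L = true) :
    Seven ⊤ S := by
  rw [fin7, Bool.and_eq_true, Nat.blt_eq] at hf
  refine seven_of_sum (fun c => (hc S c : ℚ) / Nat.card G) (fun c _ _ => meet_top_le S c) ?_
  have h1 := H.hyq.sum_le K 4 L (fun x hx' => H.num_le hx hB (allL_spec h x hx')) (primeElts S) fun c hc =>
    ⟨(mem_primeElts.1 hc).1, (mem_primeElts.1 hc).2, mem_of_cov hf.1 (mem_primeElts.1 hc).2⟩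
  have h0 : 0 < D.N := H.mass.1 ▸ Nat.card_pos
  have h2 := term_le (K := K) (e := 4) (A := B) h0
  have h3 : (((L.map fun x => term K 4 x.2.1 (D.cnt x.1)).sum : ℕ) : ℚ) + 6 * term K 4 B D.N < K := by
    exact_mod_cast hf.2
  rw [inf_top_eq, card_top]
  rw [H.mass.1] at h1 ⊢
  have h4 : (0 : ℚ) < D.N := by exact_mod_cast h0
  have h5 : (Nat.card S : ℚ) ^ 5 ≤ (B : ℚ) ^ 5 := pow_le_pow_left₀ (by positivity) (by exact_mod_cast hB) 5
  have h6 : (∑ c ∈ primeElts S, ((hc S c : ℚ) / D.N) ^ 4) + 6 * (B * ((B : ℚ) / D.N) ^ 4) < 1 := by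
    refine lt_of_mul_lt_mul_left (a := (K : ℚ)) ?_ (Nat.cast_nonneg K)
    linarith
  have h7 : (B * ((B : ℚ) / D.N) ^ 4) * (D.N : ℚ) ^ 4 = (B : ℚ) ^ 5 := by field_simp
  have h8 := mul_lt_mul_of_pos_right h6 (pow_pos h4 4)
  nlinarith

/-- the target when the outer automorphism group has order two -/
def Tw (S : Subgroup G) : Prop :=
  Four ⊤ S ∧ (∀ u : G, u ≠ 1 → 2 * hc S u ≤ Nat.card G) ∧ 49 * Nat.card S ≤ Nat.card G

/-- the numerical condition for four conjugates -/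
noncomputable def finQ (D : Dat) (ν : ℕ → ℕ) (K B : ℕ) (L : List (ℕ × ℕ × ℕ × ℕ × List (ℕ × ℕ))) : Bool :=
  cov D (L.map Prod.fst) && Nat.blt (L.map fun x => term K 3 x.2.1 (ν x.1)).sum K &&
    allL (fun x => Nat.ble (2 * x.2.1) (ν x.1) && Nat.blt 0 (ν x.1)) L && Nat.ble (49 * B) D.N

theorem Hyq.four {ν : ℕ → ℕ} (H : Hyq T rows ν) {S : Subgroup G} {ex : List ℕ} (hx : Ex S ex) {B K : ℕ}
    (hB : Nat.card S ≤ B) {L : List (ℕ × ℕ × ℕ × ℕ × List (ℕ × ℕ))} (h : allL (chkT D rows ex B) L = true)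
    (hf : finQ D ν K B L = true) : Tw S := by
  simp only [finQ, Bool.and_eq_true, Nat.blt_eq, Nat.ble_eq] at hf
  obtain ⟨⟨⟨f1, f2⟩, f3⟩, f4⟩ := hf
  have f5 : ∀ x ∈ L, 2 * x.2.1 ≤ ν x.1 ∧ 0 < ν x.1 := fun x hx' => by
    simpa only [Bool.and_eq_true, Nat.blt_eq, Nat.ble_eq] using allL_spec f3 x hx'
  have hL : ∀ x ∈ L, 0 < ν x.1 ∧ num T S x.1 ≤ x.2.1 := fun x hx' =>
    ⟨(f5 x hx').2, (H.num_le hx hB (allL_spec h x hx')).2⟩
  refine ⟨four_of_sum (fun c => (hc S c : ℚ) / Nat.card G) (fun c _ _ => meet_top_le S c) ?_, fun u hu => ?_, ?_⟩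
  · have h1 := H.sum_le K 3 L hL (primeElts S) fun c hc =>
      ⟨(mem_primeElts.1 hc).1, (mem_primeElts.1 hc).2, mem_of_cov f1 (mem_primeElts.1 hc).2⟩
    have h3 : (((L.map fun x => term K 3 x.2.1 (ν x.1)).sum : ℕ) : ℚ) < K := by exact_mod_cast f2
    refine lt_of_mul_lt_mul_left (a := (K : ℚ)) ?_ (Nat.cast_nonneg K)
    linarith
  · obtain ⟨c, hc', hp⟩ := exists_prime_order_zpowers hu
    obtain ⟨x, hx', e⟩ := List.mem_map.1 (mem_of_cov (T := T) f1 hp)
    have h1 := H.den S c hp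
    obtain ⟨h2, h3⟩ := hL x hx'
    have h4 := (f5 x hx').1
    rw [← e] at h1
    refine (Nat.mul_le_mul_left _ (hc_le_of_mem S hc')).trans (Nat.le_of_mul_le_mul_left ?_ h2)
    nlinarith [Nat.mul_le_mul_left (Nat.card G) h3, Nat.mul_le_mul_left (Nat.card G) h4]
  · rw [H.mass.1]
    omega

/-- the same when the types of prime order are rational classes -/
noncomputable def fin4 (D : Dat) (K B : ℕ) (L : List (ℕ × ℕ × ℕ × ℕ × List (ℕ × ℕ))) : Bool := finQ D D.cnt K B L

theorem Hyp.four (H : Hyp T rows) {S : Subgroup G} {ex : List ℕ} (hx : Ex S ex) {B K : ℕ} (hB : Nat.card S ≤ B)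
    {L : List (ℕ × ℕ × ℕ × ℕ × List (ℕ × ℕ))} (h : allL (chkT D rows ex B) L = true) (hf : fin4 D K B L = true) :
    Tw S := H.hyq.four hx hB h hf

/-- the order of a solvable subgroup from the order of a Hall subgroup -/
theorem Hyp0.hall (H : Hyp0 T rows) {S : Subgroup G} (hS : Group.IsSolvable S) {ex : List ℕ} (hx : Ex S ex)
    (ρ : List ℕ) {a b M B : ℕ} {c : List (ℕ × ℕ)}
    (hab : (Nat.beq D.N (a * b) && Nat.beq (Nat.gcd a b) 1 && allL (fun p => !Nat.beq (a % p) 0) ρ) = true)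
    (h : chkS D rows (ρ ++ ex) c M B = true) : Nat.card S ≤ B * b := by
  simp only [Bool.and_eq_true, Nat.beq_eq] at hab
  obtain ⟨⟨h1, h2⟩, h3⟩ := hab
  have h4 : Nat.card S ∣ a * b := h1 ▸ H.mass.1 ▸ card_subgroup_dvd_card S
  obtain ⟨m, n, hm, hn, h5⟩ := (Nat.dvd_mul).1 h4
  obtain ⟨K, hK⟩ := Solvable.Hall.hall_exists (G := S) m n h5.symm
    (Nat.Coprime.coprime_dvd_left hm (Nat.Coprime.coprime_dvd_right hn h2))
  have h6 : Nat.card (K.map S.subtype) = m := by rw [card_map_of_injective S.subtype_injective, hK]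
  have h7 := H.size (S := K.map S.subtype) (fun p hp hd => ?_) h
  · have h8 : 0 < b := Nat.pos_of_ne_zero fun e => by
      have h9 : 0 < D.N := H.mass.1 ▸ Nat.card_pos
      simp [h1, e] at h9
    rw [← h5]
    exact Nat.mul_le_mul (h6 ▸ h7) (Nat.le_of_dvd h8 hn)
  · rw [h6] at hd
    rcases List.mem_append.1 hp with hp | hp
    · have h8 := allL_spec h3 p hp
      rw [Nat.mod_eq_zero_of_dvd (hd.trans hm)] at h8
      cases h8
    · exact hx p hp (h5 ▸ hd.mul_right n)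

/-- the check that `p` and `q` do not both divide the order of a solvable subgroup -/
noncomputable def chkE (D : Dat) (p q k r : ℕ) : Bool :=
  Nat.beq D.N (q * p ^ (k + 1) * r) && Nat.beq (Nat.gcd (q * p ^ (k + 1)) r) 1 && !Nat.beq p q &&
    !Nat.beq ((q - 1) % p) 0 && allL (fun i => !Nat.beq (p ^ (i + 1) % q) 1) (List.range (k + 1)) &&
    allL (fun t => !Nat.beq (D.ord t) (q * p)) (List.range D.n)

theorem ne_of_not_beq {a b : ℕ} (h : (!Nat.beq a b) = true) : a ≠ b := by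
  rintro rfl
  rw [Nat.beq_refl] at h
  cases h

theorem Hyp0.excl (H : Hyp0 T rows) {S : Subgroup G} (hS : Group.IsSolvable S) {p q : ℕ} (k r : ℕ) (hp : p.Prime)
    (hq : q.Prime) (h : chkE D p q k r = true) (h1 : p ∣ Nat.card S) (h2 : q ∣ Nat.card S) : False := by
  simp only [chkE, Bool.and_eq_true, Nat.beq_eq] at h
  obtain ⟨⟨⟨⟨⟨c1, c2⟩, c3⟩, c4⟩, c5⟩, c6⟩ := h
  have hco : q.Coprime p := (Nat.coprime_primes hq hp).2 (ne_of_not_beq c3).symm
  have h4 : Nat.card S ∣ q * p ^ (k + 1) * r := c1 ▸ H.mass.1 ▸ card_subgroup_dvd_card S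
  obtain ⟨m, n, hm, hn, h5⟩ := (Nat.dvd_mul).1 h4
  have h3 : (q * p ^ (k + 1)).Coprime n := Nat.Coprime.coprime_dvd_right hn c2
  have h6 : q ∣ m := (Nat.Coprime.dvd_mul_right (Nat.Coprime.coprime_dvd_left (dvd_mul_right q _) h3)).1 (h5 ▸ h2)
  obtain ⟨m, rfl⟩ := h6
  have h7 : m ∣ p ^ (k + 1) := Nat.dvd_of_mul_dvd_mul_left hq.pos hm
  have h8 : p ∣ m := (Nat.Coprime.dvd_mul_left hco.symm).1 ((Nat.Coprime.dvd_mul_right
    (Nat.Coprime.coprime_dvd_left ((dvd_pow_self p k.succ_ne_zero).mul_left q) h3)).1 (h5 ▸ h1))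
  obtain ⟨y, -, hy, h9⟩ := SporA.hall_cent hS hq h5.symm (Nat.Coprime.coprime_dvd_left hm h3)
    (fun hd => (Nat.Prime.coprime_iff_not_dvd hq).1 hco (hq.dvd_of_dvd_pow (hd.trans h7))) fun d hd e => by
      obtain ⟨i, hi, rfl⟩ := (Nat.dvd_prime_pow hp).1 (hd.trans h7)
      cases i with
      | zero => rfl
      | succ i => exact absurd e (ne_of_not_beq (allL_spec c5 i (List.mem_range.2 hi)))
  have h10 : p ∣ Nat.card (centralizer ({y} : Set G)) :=
    ((Nat.Prime.dvd_mul hp).1 ((h8.mul_left q).trans h9)).resolve_right fun hd =>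
      ne_of_not_beq c4 (Nat.mod_eq_zero_of_dvd hd)
  have : Fact p.Prime := ⟨hp⟩
  obtain ⟨x, hx⟩ := exists_prime_orderOf_dvd_card' p h10
  have hx' : orderOf (x : G) = p := by rw [orderOf_coe, hx]
  have h11 : Commute y x := (mem_centralizer_singleton_iff.1 x.2).symm
  have h12 := h11.orderOf_mul_eq_mul_orderOf_of_coprime (by rwa [hy, hx'])
  rw [hy, hx', T.ord] at h12
  exact ne_of_not_beq (allL_spec c6 _ (List.mem_range.2 (T.lt _))) h12

/-! ### The hypotheses -/

omit [Finite G] in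
theorem Hyp.pull {G' : Type*} [Group G'] (H : Hyp T rows) (e : G' ≃* G) : Hyp (T.pull e) rows where
  mass := mass_pull H.mass e
  zero g := (H.zero (e g)).trans (map_eq_one_iff e e.injective)
  pos r hr S := by
    have h1 : ∀ t, num (T.pull e) S t = num T (S.map e.toMonoidHom) t := fun t =>
      Nat.card_congr ((S.equivMapOfInjective e.toMonoidHom e.injective).toEquiv.subtypeEquiv fun _ => Iff.rfl)
    simp only [h1]
    exact H.pos r hr _
  unif g h hp ht := by
    obtain ⟨k, hk⟩ := H.unif (e g) (e h) (by rwa [MulEquiv.orderOf_eq]) ht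
    refine ⟨k, ?_⟩
    have h1 := e.symm.toMonoidHom.map_isConj hk
    simpa using h1

/-- the elements of prime order `p`, where `p ^ 2` does not divide the order of the group -/
theorem conj_of_sylow {g h : G} (hp : (orderOf g).Prime) (ho : orderOf h = orderOf g)
    (hN : ¬ orderOf g * orderOf g ∣ Nat.card G) : ∃ k : ℕ, IsConj (g ^ k) h := by
  have : Fact (orderOf g).Prime := ⟨hp⟩
  have key : ∀ x : G, orderOf x = orderOf g → ∃ P : Sylow (orderOf g) G, (P : Subgroup G) = zpowers x := fun x hx =>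
    ⟨(IsPGroup.of_card (G := zpowers x) (n := 1) (by rw [Nat.card_zpowers, hx, pow_one])).toSylow fun hd => hN (by
      rw [← (zpowers x).card_mul_index, Nat.card_zpowers, hx]
      exact Nat.mul_dvd_mul_left _ hd), rfl⟩
  obtain ⟨P, hP⟩ := key g rfl
  obtain ⟨Q, hQ⟩ := key h ho
  obtain ⟨c, hc⟩ := MulAction.exists_smul_eq G P Q
  have h1 : h ∈ (Q : Subgroup G) := hQ ▸ mem_zpowers h
  rw [← hc] at h1
  obtain ⟨y, hy, h2⟩ := h1
  rw [hP] at hy
  obtain ⟨k, rfl⟩ := (mem_powers_iff_mem_zpowers.2 hy : y ∈ Submonoid.powers g)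
  exact ⟨k, isConj_iff.2 ⟨c, h2⟩⟩

/-- the types of prime order outside `L` have cyclic Sylow subgroups of prime order -/
noncomputable def covU (D : Dat) (L : List ℕ) : Bool :=
  cov D (L ++ (List.range D.n).filter fun t => !Nat.beq (D.N % (D.ord t * D.ord t)) 0)

theorem unif_of (hm : T.Mass) (L : List ℕ) (hc : covU D L = true)
    (h : ∀ t ∈ L, ∀ g h : G, T.ty g = t → T.ty h = t → ∃ k : ℕ, IsConj (g ^ k) h) :
    ∀ g h, (orderOf g).Prime → T.ty g = T.ty h → ∃ k : ℕ, IsConj (g ^ k) h := by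
  intro g g' hp ht
  rcases List.mem_append.1 (mem_of_cov (T := T) hc hp) with h1 | h1
  · exact h _ h1 g g' rfl ht.symm
  · refine conj_of_sylow hp (by rw [T.ord, T.ord, ht]) fun hd => ne_of_not_beq (List.mem_filter.1 h1).2 ?_
    rw [← T.ord, ← hm.1]
    exact Nat.mod_eq_zero_of_dvd hd

theorem single (hm : T.Mass) {t c : ℕ} {x : G} (hx : T.ty x = t) (hc : Nat.card (centralizer ({x} : Set G)) ≤ c)
    (h : D.cnt t * c ≤ D.N) (g g' : G) (hg : T.ty g = t) (hg' : T.ty g' = t) : ∃ k : ℕ, IsConj (g ^ k) g' := by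
  have h1 : D.cnt (T.ty x) * Nat.card (centralizer ({x} : Set G)) ≤ Nat.card G := by
    rw [hx, hm.1]
    exact (Nat.mul_le_mul_left _ hc).trans h
  exact ⟨1, (pow_one g).symm ▸ (TD.single hm.le h1 (hg.trans hx.symm)).symm.trans (TD.single hm.le h1 (hg'.trans hx.symm))⟩

/-- the first type and the relations -/
noncomputable def okH (D : Dat) (R : Rows) : Bool :=
  okRel R && Nat.blt 0 D.n && Nat.beq (D.ord 0) 1 && Nat.blt 0 (D.cnt 0)

theorem hyp0_of {R : Rows} (hm : T.Mass) (h : Tab T R) (hc : okH D R = true) : Hyp0 T (R.rel.map Prod.snd) := by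
  simp only [okH, Bool.and_eq_true, Nat.blt_eq, Nat.beq_eq] at hc
  exact ⟨hm, TD.ty_eq_zero hm hc.1.1.2 hc.1.2 hc.2, pos_of_tab h hc.1.1.1⟩

theorem hyp_of {R : Rows} (hm : T.Mass) (h : Tab T R) (hc : okH D R = true)
    (hu : ∀ g h, (orderOf g).Prime → T.ty g = T.ty h → ∃ k : ℕ, IsConj (g ^ k) h) : Hyp T (R.rel.map Prod.snd) :=
  ⟨hyp0_of hm h hc, hu⟩

/-- the densities from bounds for the centralizers -/
theorem Hyp0.hyq (H : Hyp0 T rows) {ν : ℕ → ℕ}
    (h : ∀ c : G, (orderOf c).Prime → Nat.card (centralizer ({c} : Set G)) * ν (T.ty c) ≤ Nat.card G) :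
    Hyq T rows ν := by
  refine ⟨H, fun S c hp => ?_⟩
  have h1 := hits_mul_cls ⊤ S c
  have h2 := cls_mul_card ⊤ c
  rw [hits_top, card_top] at h1
  rw [top_inf_eq, card_top] at h2
  have h3 : ν (T.ty c) ≤ cls ⊤ c := Nat.le_of_mul_le_mul_left (h2 ▸ h c hp) Nat.card_pos
  have h4 : meet ⊤ S c ≤ num T S (T.ty c) := by
    refine (meet_le_of_subset ⊤ S c {y | y ∈ S ∧ T.ty y = T.ty c} fun x _ hx => ⟨hx, ?_⟩).trans ?_
    · have h5 := T.conj c x⁻¹
      rwa [inv_inv] at h5
    · exact Nat.card_le_card_of_injective (fun y => ⟨⟨y.1, y.2.1⟩, y.2.2⟩)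
        fun a b hab => Subtype.ext (congrArg (fun z => ((z.1 : S) : G)) hab)
  calc ν (T.ty c) * hc S c ≤ hc S c * cls ⊤ c := by rw [mul_comm]; exact Nat.mul_le_mul_left _ h3
    _ ≤ _ := h1 ▸ Nat.mul_le_mul_left _ h4

omit [Finite G] in
theorem nc_of (hN : ¬ (Nat.card G).Prime) [IsSimpleGroup G] : ¬ IsMulCommutative G := fun hc => by
  let _ : CommGroup G := { (inferInstance : Group G) with mul_comm := hc.is_comm.comm }
  exact hN IsSimpleGroup.prime_card

end Cfsg.Agent.SB.SporL
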