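import Cfsg.Agent.SB.SporL.Row
import Cfsg.Agent.TAB.Co2.Main
import Cfsg.Agent.S2070

/-!
# S5765, the row of `Co2` (helper56)
-/

set_option autoImplicit false
set_option maxRecDepth 100000

namespace Cfsg.Agent.SB.SporL.Co2

open Subgroup Cfsg Cfsg.Agent.TAB Cfsg.Agent.TAB.Eng Cfsg.Agent.TAB.Use
open Cfsg.Agent.TAB.Co Cfsg.Agent.TAB.Co2

/-- the characters -/
noncomputable def rows : List (List ℤ) := (Sm2.mkRows A B).rel.map Prod.snd

/-- the bounds for the types, case 0 -/
def L0 : List (ℕ × ℕ × ℕ × ℕ × List (ℕ × ℕ)) := [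
  (1, 2644, 68719476736, 63585, [(31995, 6), (20452, 7), (55879, 12), (97565, 13), (25816, 14), (304431, 15), (209979,
    16), (241399, 17), (405389, 18), (661109, 19), (227948, 20), (922049, 21), (294093, 22), (224427, 23), (382366,
    24), (577457, 25), (1217204, 26), (1098213, 27), (979054, 28), (839923, 29), (1861453, 30), (1772605, 31),
    (1432299, 32), (937488, 33), (1798421, 34), (1480579, 35), (1472517, 36), (1819823, 37), (2157837, 38), (2157837,
    39), (1970082, 40), (4135966, 41), (3689227, 42), (5297754, 43), (6521735, 44), (5592685, 45), (5266669, 46),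
    (5795806, 47), (5310773, 48), (6412411, 49), (7166678, 50), (6750545, 51), (59009, 52), (241399, 54), (980252,
    55)]),
  (2, 22272, 268435456, 1987, [(706, 4), (783, 8), (3098, 12), (5252, 16), (11573, 17), (16175, 18), (18073, 19),
    (14994, 20), (14010, 21), (18223, 22), (18102, 23), (16089, 24), (28071, 25), (19614, 26), (34079, 27), (41983,
    28), (31466, 29), (32335, 30), (43279, 31), (36392, 32), (43628, 33), (43542, 34), (49906, 35), (60264, 36),
    (56780, 37), (68985, 38), (69325, 39), (85663, 40), (146714, 41), (121313, 42), (188021, 43), (172428, 44),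
    (188306, 45), (195751, 46), (212472, 47), (213516, 48), (203025, 49), (212675, 50), (229792, 51), (73, 52),
    (11573, 54), (24778, 55)]),
  (3, 189948, 8388608, 596, [(46, 1), (159, 7), (159, 9), (1138, 12), (956, 13), (1388, 14), (1343, 15), (2276, 16),
    (2071, 17), (3436, 18), (4392, 19), (3163, 20), (5461, 21), (5689, 22), (4824, 23), (5643, 24), (5461, 25), (7737,
    26), (7259, 27), (10377, 28), (8943, 29), (10718, 30), (10172, 31), (12288, 32), (14359, 33), (11560, 34), (12902,
    35), (15269, 36), (19115, 37), (15246, 38), (18887, 39), (22528, 40), (31858, 41), (33382, 42), (46421, 43),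
    (47332, 44), (47764, 45), (50995, 46), (50745, 47), (54818, 48), (52156, 49), (54431, 50), (54841, 51), (353, 52),
    (603, 53), (2071, 54), (5905, 55)]),
  (4, 686314, 524288, 361, [(1, 1), (3, 4), (5, 6), (29, 7), (77, 9), (6, 11), (12, 12), (39, 14), (81, 15), (185,
    16), (130, 17), (265, 18), (285, 19), (268, 20), (172, 21), (505, 22), (350, 23), (366, 24), (515, 25), (521, 26),
    (468, 27), (550, 28), (633, 29), (633, 30), (666, 31), (865, 32), (657, 33), (682, 34), (811, 35), (859, 36),
    (775, 37), (771, 38), (759, 39), (1127, 40), (1816, 41), (1941, 42), (2878, 43), (2413, 44), (2911, 45), (3005,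
    46), (2752, 47), (2972, 48), (3074, 49), (3270, 50), (3119, 51), (130, 54), (463, 55)]),
  (5, 1551917, 2097152, 2088, [(39, 12), (3406, 16), (3619, 17), (4819, 18), (7316, 19), (6716, 20), (4529, 21),
    (10257, 22), (7645, 23), (7819, 24), (10277, 25), (10954, 26), (10393, 27), (13180, 28), (14728, 29), (14864, 30),
    (14535, 31), (18038, 32), (14980, 33), (17902, 34), (21463, 35), (22857, 36), (21947, 37), (22102, 38), (22353,
    39), (29534, 40), (44281, 41), (46758, 42), (65415, 43), (62009, 44), (70060, 45), (72440, 46), (69499, 47),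
    (72808, 48), (75285, 49), (77530, 50), (76350, 51), (145, 53), (3619, 54), (9822, 55)]),
  (13, 9911221, 2048, 22, [(3, 1), (1, 13), (4, 14), (2, 15), (3, 16), (5, 17), (17, 18), (9, 19), (17, 21), (12, 22),
    (7, 23), (15, 24), (15, 25), (17, 26), (9, 27), (21, 29), (21, 30), (17, 31), (23, 32), (22, 33), (23, 34), (29,
    35), (44, 36), (34, 37), (34, 38), (35, 39), (45, 40), (67, 41), (58, 42), (92, 43), (93, 44), (87, 45), (110,
    46), (105, 47), (106, 48), (99, 49), (126, 50), (109, 51), (1, 52), (4, 53), (5, 54), (6, 55)]),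
  (14, 103376065, 16384, 1630, [(181, 8), (58, 11), (5, 12), (438, 16), (794, 17), (1147, 18), (1855, 19), (1774, 20),
    (1552, 21), (1889, 22), (2017, 23), (2216, 24), (1663, 25), (2577, 26), (2622, 27), (3266, 28), (3497, 29), (3727,
    30), (3789, 31), (3960, 32), (3769, 33), (3838, 34), (4669, 35), (5545, 36), (5236, 37), (5568, 38), (5922, 39),
    (7263, 40), (10780, 41), (10984, 42), (15033, 43), (14574, 44), (15198, 45), (15836, 46), (16566, 47), (16905,
    48), (16932, 49), (17472, 50), (17605, 51), (853, 54), (1723, 55)]),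
  (21, 822034633, 1, 1, []),
  (32, 822034633, 1, 1, []),
  (50, 822034633, 1, 1, [])]

theorem s0 : chkS D rows ([7] ++ []) [(23055, 1), (82990, 9), (20309, 13), (22173, 14), (19744, 15), (14856, 17),
    (39288, 18), (50686, 19), (39397, 21), (45748, 22), (19948, 23), (43939, 26), (25755, 27), (25889, 28), (51841,
    29), (60590, 30), (39088, 31), (20410, 32), (44051, 33), (55701, 34), (19536, 35), (67035, 36), (74432, 37),
    (70225, 38), (103528, 39), (335442, 40), (294286, 41), (303381, 42), (330231, 43), (364857, 44), (339410, 45),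
    (464223, 46), (325884, 47), (264525, 48), (348410, 49), (403778, 50), (317544, 51), (350, 52), (86962, 54),
    (53410, 55)] 65186 117433519 = true := by
  decide +kernel

theorem t0 : allL (chkT D rows [] (117433519 * 7)) L0 = true := by decide +kernel

theorem f0 : fin7 D 1000000 (117433519 * 7) L0 = true := by decide +kernel

theorem all {G : Type*} [Group G] [Finite G] {T : TD G D} (H : Hyp T rows) (S : Subgroup G)
    (hS : Group.IsSolvable S) : Seven ⊤ S := by
  have hx : Ex S [] := Ex.nil S
  exact H.seven hx (H.hall hS hx [7] (a := 6043631616000) (by decide +kernel) s0) t0 f0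

theorem hyp : ∃ T : TD Spor.Co2 D, Hyp T rows := by
  have := Co2.finite
  obtain ⟨T, hm, hr, -, hs⟩ := str
  refine ⟨T, hyp_of hm (tab_of_virt hm ok_one (virt_of_certs hm.1 ok_primes hs (allL_spec ok_certs) ok_all) ok_rows).2
    (by decide +kernel) fun g h _ e => ?_⟩
  rcases hr g h e with h1 | ⟨-, h1⟩
  · exact ⟨1, (pow_one g).symm ▸ h1⟩
  · have h2 : g ^ (orderOf g - 1) = g⁻¹ := eq_inv_of_mul_eq_one_left (by
      rw [← pow_succ, Nat.sub_add_cancel (orderOf_pos g), pow_orderOf_eq_one])
    exact ⟨_, h2 ▸ h1⟩

end Cfsg.Agent.SB.SporL.Co2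

namespace Cfsg.Agent.SB.SporL

open Cfsg

/-- **The row of `Co2`.** -/
theorem row_Co2 (K : Type*) [Group K] [IsSimpleGroup K] (h : Spor.IsoCo2 K) : Row K := by
  obtain ⟨e⟩ := h
  obtain ⟨T, H⟩ := Co2.hyp
  have : Finite Spor.Co2 := TAB.Co2.finite
  exact H.row_one e (by decide +kernel) S2070.result (Co2.all H)

end Cfsg.Agent.SB.SporL
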