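import Cfsg.Agent.SB.SporL.Row
import Cfsg.Agent.TAB.Sm2.M22
import Cfsg.Agent.S2062

/-!
# S5765, the row of `M22` (helper56)
-/

set_option autoImplicit false
set_option maxRecDepth 100000

namespace Cfsg.Agent.SB.SporL.M22

open Subgroup Cfsg Cfsg.Agent.TAB Cfsg.Agent.TAB.Eng Cfsg.Agent.TAB.Use
open Cfsg.Agent.TAB.Sm2 Cfsg.Agent.TAB.Sm2.M22

/-- the characters -/
noncomputable def rows : List (List ℤ) := (mkRows rA rB).rel.map Prod.snd

/-- the bounds for the types, case 0 -/
def L0 : List (ℕ × ℕ × ℕ × ℕ × List (ℕ × ℕ)) := [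
  (1, 100, 2048, 2, [(85, 5), (85, 6), (171, 7), (43, 8), (171, 9)]),
  (2, 224, 8, 0, [(2, 6), (2, 7), (1, 9)]),
  (5, 0, 1, 0, []),
  (7, 1348, 1, 1, []),
  (9, 0, 1, 0, [])]

theorem s0 : chkS dat rows ([] ++ [5, 11]) [(341, 5), (341, 6), (256, 7), (256, 8), (128, 9)] 255 1348 = true := by
  decide +kernel

theorem t0 : allL (chkT dat rows [5, 11] (1348 * 1)) L0 = true := by decide +kernel

theorem f0 : fin4 dat 1000000 (1348 * 1) L0 = true := by decide +kernel

/-- the bounds for the types, case 1 -/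
def L1 : List (ℕ × ℕ × ℕ × ℕ × List (ℕ × ℕ)) := [
  (1, 35, 16, 0, [(1, 9)]),
  (2, 0, 1, 0, []),
  (5, 875, 8, 1, [(2, 2), (3, 3), (5, 4), (3, 5), (1, 8), (5, 9)]),
  (7, 902, 4, 0, [(1, 1), (3, 2), (3, 4), (3, 5), (1, 8), (4, 9)]),
  (9, 560, 1, 0, [(1, 9)])]

theorem s1 : chkS dat rows ([] ++ [3]) [(5, 1), (5, 2), (2, 3), (7, 4), (9, 5), (1, 8), (10, 9)] 4 2310 = true := by
  decide +kernel

theorem t1 : allL (chkT dat rows [3] (2310 * 1)) L1 = true := by decide +kernel

theorem f1 : fin4 dat 1000000 (2310 * 1) L1 = true := by decide +kernel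

theorem all {G : Type*} [Group G] [Finite G] {T : TD G dat} (H : Hyp T rows) (S : Subgroup G)
    (hS : Group.IsSolvable S) : Tw S := by
  by_cases h3 : 3 ∣ Nat.card S
  · have n5 : ¬ 5 ∣ Nat.card S :=
      fun h => H.excl hS 1 9856 (by norm_num) (by norm_num) (by decide +kernel) h3 h
    have n11 : ¬ 11 ∣ Nat.card S :=
      fun h => H.excl hS 1 4480 (by norm_num) (by norm_num) (by decide +kernel) h3 h
    have hx : Ex S [5, 11] := Ex.cons n5 (Ex.cons n11 (Ex.nil S))
    exact H.four hx (H.hall hS hx [] (a := 443520) (by decide +kernel) s0) t0 f0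
  · have hx : Ex S [3] := Ex.cons h3 (Ex.nil S)
    exact H.four hx (H.hall hS hx [] (a := 443520) (by decide +kernel) s1) t1 f1

theorem hyp : ∃ T : TD Spor.M22 dat, Hyp T rows := by
  obtain ⟨T, hm, h1, h2, h3, h4⟩ := exists_T (tp := fun i => tpL.getD i 0) (bx := fun t => bxL.getD t (0, 0))
    H729.M22Deg.inc_injective inv₁ inv₂ (D := dat) card_eq (by decide +kernel) (by decide +kernel)
    (by decide +kernel) reps hT (by decide +kernel) (by decide +kernel) (by decide +kernel)
  refine ⟨T, hyp_of hm (tab_of_rows hm h3 (virt_rows card_eq (fun sd hs => ?_) (by decide +kernel) hC)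
    (by decide +kernel)) (by decide +kernel) (unif_of hm [1, 2] (by decide +kernel) fun t ht => ?_)⟩
  · simp only [List.mem_cons, List.not_mem_nil, or_false] at hs
    rcases hs with rfl | rfl
    · exact h1
    · exact h2
  · simp only [List.mem_cons, List.not_mem_nil, or_false] at ht
    rcases ht with rfl | rfl
    · obtain ⟨x, -, hx, hc⟩ := h4 0 (by decide) (by decide +kernel)
      exact single hm hx hc (by decide +kernel)
    · obtain ⟨x, -, hx, hc⟩ := h4 1 (by decide) (by decide +kernel)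
      exact single hm hx hc (by decide +kernel)

end Cfsg.Agent.SB.SporL.M22

namespace Cfsg.Agent.SB.SporL

open Cfsg

/-- **The row of `M22`.** -/
theorem row_M22 (K : Type*) [Group K] [IsSimpleGroup K] (h : Spor.IsoM22 K) : Row K := by
  obtain ⟨e⟩ := h
  obtain ⟨T, H⟩ := M22.hyp
  have : Finite Spor.M22 := inferInstance
  exact H.row_two e (by decide +kernel) S2062.result (M22.all H)

end Cfsg.Agent.SB.SporL
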