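import Cfsg.Agent.SB.SporL.Row
import Cfsg.Agent.TAB.Sm2.M23
import Cfsg.Agent.S2063

/-!
# S5765, the row of `M23` (helper56)
-/

set_option autoImplicit false
set_option maxRecDepth 100000

namespace Cfsg.Agent.SB.SporL.M23

open Subgroup Cfsg Cfsg.Agent.TAB Cfsg.Agent.TAB.Eng Cfsg.Agent.TAB.Use
open Cfsg.Agent.TAB.Sm2 Cfsg.Agent.TAB.Sm2.M23

/-- the characters -/
noncomputable def rows : List (List ℤ) := (mkRows rA rB).rel.map Prod.snd

/-- the bounds for the types, case 0 -/
def L0 : List (ℕ × ℕ × ℕ × ℕ × List (ℕ × ℕ)) := [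
  (1, 352, 8192, 51, [(49, 5), (293, 6), (171, 9), (171, 10), (195, 11)]),
  (2, 2390, 2048, 51, [(89, 4), (390, 5), (716, 6), (4, 7), (122, 8), (215, 9), (349, 10), (362, 11)]),
  (4, 12050, 16, 5, [(5, 4), (8, 5), (13, 6), (5, 9), (5, 10), (7, 11)]),
  (6, 25285, 1, 1, []),
  (8, 25285, 1, 1, []),
  (11, 13619, 4, 2, [(1, 6), (1, 7), (1, 10)])]

theorem s0 : chkS dat rows ([5] ++ []) [(116, 2), (1140, 3), (139, 4), (523, 5), (23, 7), (111, 8), (389, 9), (1477,
    10), (501, 11)] 1020 5057 = true := by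
  decide +kernel

theorem t0 : allL (chkT dat rows [] (5057 * 5)) L0 = true := by decide +kernel

theorem f0 : fin7 dat 1000000 (5057 * 5) L0 = true := by decide +kernel

theorem all {G : Type*} [Group G] [Finite G] {T : TD G dat} (H : Hyp T rows) (S : Subgroup G)
    (hS : Group.IsSolvable S) : Seven ⊤ S := by
  have hx : Ex S [] := Ex.nil S
  exact H.seven hx (H.hall hS hx [5] (a := 2040192) (by decide +kernel) s0) t0 f0

theorem hyp : ∃ T : TD Spor.M23 dat, Hyp T rows := by
  obtain ⟨T, hm, h1, h2, h3, h4⟩ := exists_T (tp := fun i => tpL.getD i 0) (bx := fun t => bxL.getD t (0, 0))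
    H334.Ore.M23.inc23_injective inv₁ inv_nil (D := dat) card_eq (by decide +kernel) (by decide +kernel)
    (by decide +kernel) reps hT (by decide +kernel) (by decide +kernel) (by decide +kernel)
  refine ⟨T, hyp_of hm (tab_of_rows hm h3 (virt_rows card_eq (fun sd hs => ?_) (by decide +kernel) hC)
    (by decide +kernel)) (by decide +kernel) (unif_of hm [1, 2] (by decide +kernel) fun t ht => ?_)⟩
  · rw [List.mem_singleton.1 hs]
    exact h1
  · simp only [List.mem_cons, List.not_mem_nil, or_false] at ht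
    rcases ht with rfl | rfl
    · obtain ⟨x, -, hx, hc⟩ := h4 0 (by decide) (by decide +kernel)
      exact single hm hx hc (by decide +kernel)
    · obtain ⟨x, -, hx, hc⟩ := h4 1 (by decide) (by decide +kernel)
      exact single hm hx hc (by decide +kernel)

end Cfsg.Agent.SB.SporL.M23

namespace Cfsg.Agent.SB.SporL

open Cfsg

/-- **The row of `M23`.** -/
theorem row_M23 (K : Type*) [Group K] [IsSimpleGroup K] (h : Spor.IsoM23 K) : Row K := by
  obtain ⟨e⟩ := h
  obtain ⟨T, H⟩ := M23.hyp
  have : Finite Spor.M23 := inferInstance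
  exact H.row_one e (by decide +kernel) S2063.result (M23.all H)

end Cfsg.Agent.SB.SporL
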