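import Cfsg.Agent.SB.SporL.Row
import Cfsg.Agent.TAB.Sm2.M24
import Cfsg.Agent.S2064

/-!
# S5765, the row of `M24` (helper56)
-/

set_option autoImplicit false
set_option maxRecDepth 100000

namespace Cfsg.Agent.SB.SporL.M24

open Subgroup Cfsg Cfsg.Agent.TAB Cfsg.Agent.TAB.Eng Cfsg.Agent.TAB.Use
open Cfsg.Agent.TAB.Sm2 Cfsg.Agent.TAB.Sm2.M24

/-- the characters -/
noncomputable def rows : List (List ℤ) := (mkRows rA rB).rel.map Prod.snd

/-- the bounds for the types, case 0 -/
def L0 : List (ℕ × ℕ × ℕ × ℕ × List (ℕ × ℕ)) := [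
  (1, 1123, 524288, 405, [(390, 5), (2731, 7), (2341, 8), (2731, 9), (5461, 10), (5461, 11), (8192, 12), (10923, 13),
    (10923, 14), (19115, 15), (2731, 18), (1560, 19), (2731, 20)]),
  (2, 1325, 131072, 84, [(30, 1), (334, 3), (228, 4), (986, 6), (834, 7), (759, 8), (1638, 9), (1638, 10), (1972, 11),
    (2913, 12), (2731, 13), (2731, 14), (6827, 15), (228, 17), (303, 18), (683, 19), (683, 20)]),
  (3, 11226, 32768, 714, [(537, 5), (407, 6), (910, 8), (798, 9), (1335, 10), (615, 11), (2436, 12), (1656, 13),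
    (2358, 14), (4178, 15), (204, 16), (351, 18), (186, 19), (390, 20)]),
  (4, 6220, 4096, 32, [(12, 3), (12, 4), (49, 6), (24, 7), (73, 9), (219, 10), (256, 11), (280, 12), (329, 13), (329,
    14), (549, 15), (12, 17), (91, 18), (73, 20)]),
  (8, 79186, 2048, 394, [(31, 4), (215, 5), (37, 6), (210, 9), (385, 10), (82, 12), (250, 13), (182, 14), (464, 15),
    (3, 17), (65, 18), (128, 19)]),
  (11, 114385, 128, 36, [(10, 5), (25, 6), (3, 10), (5, 11), (9, 12), (16, 14), (47, 15), (10, 16), (14, 18), (3, 19),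
    (9, 20)]),
  (14, 129634, 32, 8, [(3, 4), (4, 6), (7, 7), (4, 8), (11, 9), (8, 10), (14, 11), (21, 12), (30, 13), (30, 14), (45,
    15), (1, 17), (3, 18), (4, 19)]),
  (20, 113136, 16, 4, [(2, 6), (1, 7), (2, 8), (3, 9), (3, 10), (2, 11), (6, 12), (3, 13), (6, 14), (14, 15), (1, 16),
    (2, 18), (1, 20)])]

theorem s0 : chkS dat rows ([3] ++ []) [(1659, 3), (2305, 4), (1992, 6), (316, 7), (462, 9), (1347, 13), (958, 15),
    (128, 16), (3215, 18), (517, 19)] 2034 14296 = true := by
  decide +kernel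

theorem t0 : allL (chkT dat rows [] (14296 * 27)) L0 = true := by decide +kernel

theorem f0 : fin7 dat 1000000 (14296 * 27) L0 = true := by decide +kernel

theorem all {G : Type*} [Group G] [Finite G] {T : TD G dat} (H : Hyp T rows) (S : Subgroup G)
    (hS : Group.IsSolvable S) : Seven ⊤ S := by
  have hx : Ex S [] := Ex.nil S
  exact H.seven hx (H.hall hS hx [3] (a := 9067520) (by decide +kernel) s0) t0 f0

theorem hyp : ∃ T : TD M24 dat, Hyp T rows := by
  obtain ⟨T, hm, h1, h2, h3, h4⟩ := exists_T (tp := fun i => tpL.getD i 0) (bx := fun t => bxL.getD t (0, 0))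
    H334.Ore.M24R.id_injective inv₁ inv₂ (D := dat) card_eq (by decide +kernel) (by decide +kernel)
    (by decide +kernel) reps hT (by decide +kernel) (by decide +kernel) (by decide +kernel)
  refine ⟨T, hyp_of hm (tab_of_rows hm h3 (virt_rows card_eq (fun sd hs => ?_) (by decide +kernel) hC)
    (by decide +kernel)) (by decide +kernel) (unif_of hm [1, 2, 3, 4] (by decide +kernel) fun t ht => ?_)⟩
  · simp only [List.mem_cons, List.not_mem_nil, or_false] at hs
    rcases hs with rfl | rfl
    · exact h1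
    · exact h2
  · simp only [List.mem_cons, List.not_mem_nil, or_false] at ht
    rcases ht with rfl | rfl | rfl | rfl
    · obtain ⟨x, -, hx, hc⟩ := h4 0 (by decide) (by decide +kernel)
      exact single hm hx hc (by decide +kernel)
    · obtain ⟨x, -, hx, hc⟩ := h4 1 (by decide) (by decide +kernel)
      exact single hm hx hc (by decide +kernel)
    · obtain ⟨x, -, hx, hc⟩ := h4 2 (by decide) (by decide +kernel)
      exact single hm hx hc (by decide +kernel)
    · obtain ⟨x, -, hx, hc⟩ := h4 3 (by decide) (by decide +kernel)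
      exact single hm hx hc (by decide +kernel)

end Cfsg.Agent.SB.SporL.M24

namespace Cfsg.Agent.SB.SporL

open Cfsg

/-- **The row of `M24`.** -/
theorem row_M24 (K : Type*) [Group K] [IsSimpleGroup K] (h : Spor.IsoM24 K) : Row K := by
  obtain ⟨e⟩ := h
  obtain ⟨T, H⟩ := M24.hyp
  have : Finite M24 := inferInstance
  exact H.row_one e (by decide +kernel) S2064.result (M24.all H)

end Cfsg.Agent.SB.SporL
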