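import Cfsg.Agent.SB.SporL.Row
import Cfsg.Agent.TAB.Ru.Main
import Cfsg.Agent.S2077

/-!
# S5765, the row of `Ru` (helper56)
-/

set_option autoImplicit false
set_option maxRecDepth 100000

namespace Cfsg.Agent.SB.SporL.Ru

open Subgroup Cfsg Cfsg.Agent.TAB Cfsg.Agent.TAB.Eng Cfsg.Agent.TAB.Use
open Cfsg.Agent.TAB.Ru hiding rows

/-- the characters -/
noncomputable def rows : List (List ℤ) := RR.rel.map Prod.snd

/-- the bounds for the types, case 0 -/
def L0 : List (ℕ × ℕ × ℕ × ℕ × List (ℕ × ℕ)) := [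
  (1, 8352, 524288, 61, [(70, 1), (19, 4), (741, 6), (848, 9), (906, 10), (1156, 11), (763, 12), (1623, 13), (911,
    14), (901, 15), (2038, 16), (1734, 17), (1753, 18), (1586, 19), (1854, 20), (1885, 21), (639, 23), (1876, 24),
    (2312, 25), (674, 26), (1054, 27)]),
  (2, 13776, 4194304, 81, [(6420, 5), (9850, 6), (6405, 7), (6374, 8), (16306, 9), (21502, 10), (22401, 11), (22675,
    12), (31363, 13), (29193, 14), (27938, 15), (32180, 16), (37813, 17), (37829, 18), (38033, 19), (38656, 20),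
    (44215, 21), (11058, 23), (37798, 24), (43097, 25), (8840, 26), (16277, 27)]),
  (3, 271162, 16384, 69, [(271, 5), (264, 6), (474, 7), (464, 8), (750, 9), (944, 10), (1153, 11), (1009, 12), (1209,
    13), (1190, 14), (1422, 15), (1403, 16), (1490, 17), (1697, 18), (1655, 19), (1891, 20), (2167, 21), (544, 23),
    (1690, 24), (1911, 25), (464, 26), (745, 27)]),
  (8, 1423885, 2048, 100, [(20, 3), (3, 4), (11, 5), (3, 8), (37, 9), (22, 10), (73, 11), (111, 14), (68, 15), (95,
    16), (23, 17), (58, 18), (97, 19), (58, 20), (83, 21), (102, 24), (124, 25), (27, 26), (15, 27)]),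
  (9, 1057056, 1024, 37, [(14, 6), (5, 9), (2, 10), (9, 11), (14, 12), (26, 13), (28, 14), (29, 15), (14, 16), (26,
    17), (26, 18), (29, 19), (23, 20), (50, 21), (17, 23), (26, 24), (46, 25), (11, 26), (21, 27)]),
  (11, 2615932, 128, 11, [(5, 2), (3, 5), (3, 7), (4, 8), (8, 9), (10, 10), (11, 11), (11, 12), (14, 13), (13, 15),
    (11, 16), (18, 17), (18, 18), (32, 19), (19, 20), (17, 21), (6, 23), (18, 24), (25, 25), (8, 27)]),
  (19, 6606132, 256, 59, [(2, 5), (18, 11), (14, 12), (22, 13), (38, 14), (49, 15), (1, 16), (24, 17), (26, 18), (21,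
    19), (27, 20), (5, 21), (9, 23), (26, 24), (35, 25), (17, 26), (20, 27)]),
  (27, 28018224, 1, 1, [])]

theorem s0 : chkS D rows ([3] ++ []) [(318, 1), (706, 4), (125, 5), (193, 7), (194, 8), (458, 9), (953, 10), (512,
    13), (1412, 14), (582, 16), (1341, 17), (1606, 19), (335, 20), (1, 22), (1137, 23), (705, 24), (803, 25), (195,
    26), (318, 27)] 1014 1037712 = true := by
  decide +kernel

theorem t0 : allL (chkT D rows [] (1037712 * 27)) L0 = true := by decide +kernel

theorem f0 : fin7 D 1000000 (1037712 * 27) L0 = true := by decide +kernel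

theorem all {G : Type*} [Group G] [Finite G] {T : TD G D} (H : Hyp T rows) (S : Subgroup G)
    (hS : Group.IsSolvable S) : Seven ⊤ S := by
  have hx : Ex S [] := Ex.nil S
  exact H.seven hx (H.hall hS hx [3] (a := 5404672000) (by decide +kernel) s0) t0 f0

open Cfsg.Agent.SporadicB.RuOrder (H) in
open Cfsg.Agent.H300.Ru in
theorem hyp : ∃ T : TD Spor.Ru D, Hyp T rows := by
  have := finH
  have hs : ∀ sd ∈ seeds, Virt T (nth sd) := List.forall_mem_cons.2 ⟨virt_gc gc1, List.forall_mem_cons.2 ⟨virt_gc gc2,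
    List.forall_mem_cons.2 ⟨virt_gc gc5, List.forall_mem_singleton.2
      (ON.virt_coad (k := 2) mass rat (virt_gc gc0) (by decide +kernel))⟩⟩⟩
  have hk := Nat.card_le_card_of_injective (fun j : Fin 36 => ConjClasses.mk (R j))
    fun i j h => nonconj i j (ConjClasses.mk_eq_mk_iff_isConj.1 h)
  rw [Nat.card_eq_fintype_card, Fintype.card_fin] at hk
  have h1 := Sm1.virt_five mass rfl hs 1 [1, 9, 14, 17, 18] (by decide) (by decide +kernel) ok_A
  have h2 := Sm1.virt_okC mass.1 (List.forall_mem_append.2 ⟨hs, List.forall_mem_singleton.2 h1⟩) ok_B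
  exact ⟨_, (hyp_of mass (Sm1.tab_of_cls mass (fun r hr => h2 _ (List.of_mem_zip hr).2) ok_R hk) (by decide +kernel)
    fun g h _ e => rat g h e).pull RuLat.Main.equiv⟩

end Cfsg.Agent.SB.SporL.Ru

namespace Cfsg.Agent.SB.SporL

open Cfsg

/-- **The row of `Ru`.** -/
theorem row_Ru (K : Type*) [Group K] [IsSimpleGroup K] (h : Spor.IsoRu K) : Row K := by
  obtain ⟨e⟩ := h
  obtain ⟨T, H⟩ := Ru.hyp
  have : Finite Spor.Ru := TAB.Ru.finite
  exact H.row_one e (by decide +kernel) S2077.result (Ru.all H)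

end Cfsg.Agent.SB.SporL
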