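import Cfsg.Agent.SB.SporL.Row
import Cfsg.Agent.TAB.Suz.Main
import Cfsg.Agent.S2074

/-!
# S5765, the row of `Suz` (helper56)
-/

set_option autoImplicit false
set_option maxRecDepth 100000

namespace Cfsg.Agent.SB.SporL.Suz

open Subgroup Cfsg Cfsg.Agent.TAB Cfsg.Agent.TAB.Eng Cfsg.Agent.TAB.Use
open Cfsg.Agent.TAB.Sz

/-- the characters -/
noncomputable def rows : List (List ℤ) := (Sm2.mkRows rowA rowB).rel.map Prod.snd

/-- lower bounds for the lengths of the classes -/
def nu (t : ℕ) : ℕ := cond (Nat.beq t 1) (dat.cnt t) (dat.cnt t / 2)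

/-- the bounds for the types, case 0 -/
def L0 : List (ℕ × ℕ × ℕ × ℕ × List (ℕ × ℕ)) := [
  (1, 1444, 65536, 35, [(11, 1), (7, 4), (26, 5), (8, 11), (4, 13), (10, 15), (27, 25), (11, 26), (63, 28), (45, 29),
    (6, 31), (7, 33), (3, 34), (13, 36)]),
  (4, 13037, 16384, 44, [(8, 4), (3, 8), (1, 14), (78, 15), (8, 17), (2, 18), (1, 19), (9, 20), (23, 22), (96, 23),
    (85, 25), (100, 26), (108, 28), (96, 29), (84, 31), (2, 32), (4, 34), (48, 35), (131, 36)]),
  (6, 55811, 512, 7, [(2, 1), (2, 2), (2, 5), (4, 8), (1, 9), (5, 13), (1, 14), (8, 15), (2, 21), (6, 23), (5, 24),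
    (10, 25), (7, 26), (13, 28), (11, 29), (5, 30), (12, 31), (2, 35), (19, 36)]),
  (9, 0, 1, 0, []),
  (14, 0, 1, 0, []),
  (16, 0, 1, 0, []),
  (29, 1690735, 1, 1, []),
  (31, 6188, 16384, 13, [(9, 1), (11, 4), (12, 5), (2, 7), (14, 8), (11, 13), (37, 14), (8, 15), (9, 17), (14, 20),
    (5, 21), (24, 22), (32, 23), (8, 24), (41, 25), (42, 26), (43, 27), (51, 28), (72, 29), (33, 30), (8, 33), (12,
    36)]),
  (34, 0, 1, 0, []),
  (36, 513, 33554432, 131, [(4355, 4), (4480, 8), (4815, 13), (2901, 14), (5161, 17), (3639, 20), (8801, 23), (8707,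
    24), (4207, 25), (10226, 26), (18016, 28), (11225, 29), (8627, 30), (460, 31), (2118, 32), (1175, 34), (1825, 35),
    (5930, 36)])]

theorem s0 : chkS dat rows ([] ++ [5, 11, 13]) [(47514, 4), (19661, 5), (34406, 8), (8192, 11), (4915, 12), (22938,
    13), (18022, 14), (14746, 15), (11469, 17), (27853, 20), (37683, 22), (42598, 23), (6554, 24), (65536, 25),
    (50790, 26), (67174, 27), (109773, 28), (47514, 29), (44237, 30), (6554, 33), (11469, 34), (9830, 35), (29491,
    36)] 65105 1690735 = true := by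
  decide +kernel

theorem t0 : allL (chkT dat rows [5, 11, 13] (1690735 * 1)) L0 = true := by decide +kernel

theorem f0 : finQ dat nu 1000000 (1690735 * 1) L0 = true := by decide +kernel

/-- the bounds for the types, case 1 -/
def L1 : List (ℕ × ℕ × ℕ × ℕ × List (ℕ × ℕ)) := [
  (1, 3146, 33554432, 16, [(2326, 7), (5664, 11), (5002, 12), (5617, 13), (6941, 14), (14802, 15), (15894, 16),
    (15353, 17), (17901, 18), (17797, 19), (17561, 20), (37015, 21), (33065, 22), (32363, 23), (41423, 24), (51699,
    25), (45116, 26), (40629, 27), (52719, 28), (61049, 29), (58594, 30), (919, 31), (2015, 32), (8025, 33), (14187,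
    34), (14770, 35), (19330, 36)]),
  (4, 56907, 2097152, 51, [(303, 3), (303, 4), (4113, 5), (5495, 7), (5192, 10), (4933, 12), (7372, 13), (12046, 14),
    (19036, 15), (12754, 16), (19160, 17), (28790, 18), (22407, 19), (24655, 20), (31723, 21), (41106, 22), (46927,
    23), (45680, 24), (51062, 25), (53478, 26), (50500, 27), (53220, 28), (63345, 29), (65042, 30), (3146, 32), (5495,
    33), (12046, 34), (17440, 35), (24155, 36)]),
  (6, 109016, 65536, 141, [(309, 7), (419, 11), (505, 13), (421, 14), (913, 15), (93, 16), (203, 17), (346, 18), (346,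
    19), (512, 20), (933, 21), (630, 22), (1303, 23), (2509, 24), (2097, 25), (1586, 26), (1829, 27), (1206, 28),
    (1825, 29), (2382, 30), (27, 31), (73, 32), (35, 33), (376, 34), (621, 35), (887, 36)]),
  (9, 3319441, 2048, 56, [(619, 7), (36, 10), (167, 12), (517, 13), (703, 14), (821, 15), (469, 16), (1137, 17), (727,
    18), (727, 19), (1337, 20), (1631, 21), (2034, 22), (2172, 23), (3023, 24), (2975, 25), (2367, 26), (2422, 27),
    (2240, 28), (2753, 29), (2149, 30), (92, 31), (155, 32), (338, 33), (523, 34), (888, 35), (1119, 36)]),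
  (14, 919941, 131072, 41, [(7282, 7), (7282, 10), (3641, 11), (6068, 12), (8495, 13), (13350, 14), (15777, 15),
    (13350, 16), (20632, 17), (21845, 18), (23059, 19), (27913, 20), (36409, 21), (42477, 22), (43691, 23), (58254,
    24), (52186, 25), (49759, 26), (50972, 27), (48545, 28), (61895, 29), (67963, 30), (2427, 32), (7282, 33), (13350,
    34), (16991, 35), (23666, 36)]),
  (16, 5853805, 256, 37, [(44, 1), (43, 5), (56, 7), (23, 10), (11, 12), (71, 13), (70, 14), (113, 15), (56, 16), (85,
    17), (126, 18), (83, 19), (108, 20), (140, 21), (121, 22), (221, 23), (344, 24), (330, 25), (235, 26), (253, 27),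
    (223, 28), (302, 29), (421, 30), (10, 31), (23, 32), (17, 33), (54, 34), (70, 35), (116, 36)]),
  (29, 0, 1, 0, []),
  (31, 10925, 33554432, 33, [(31183, 7), (19327, 8), (3906, 10), (3701, 11), (16106, 13), (70316, 14), (54690, 15),
    (33616, 16), (55033, 17), (39065, 18), (58391, 19), (86216, 20), (102390, 21), (116885, 22), (133642, 23),
    (139570, 24), (157081, 25), (172707, 26), (157149, 27), (141455, 28), (230892, 29), (227089, 30), (11548, 31),
    (3906, 32), (31217, 33), (27482, 34), (33513, 35), (67027, 36)]),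
  (34, 248292, 2097152, 7, [(22884, 7), (17659, 8), (40543, 10), (35318, 12), (46394, 13), (51619, 14), (89654, 15),
    (45506, 16), (73144, 17), (107313, 18), (78369, 19), (96028, 20), (154857, 21), (135160, 22), (190175, 23),
    (245399, 24), (244511, 25), (206476, 26), (254333, 27), (206476, 28), (264678, 29), (335053, 30), (8150, 32),
    (29101, 33), (48014, 34), (69278, 35), (101305, 36)]),
  (36, 1647, 268435456, 235, [(8517, 7), (10338, 8), (15213, 10), (13392, 12), (52924, 13), (47460, 14), (37122, 15),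
    (24052, 16), (74244, 17), (62084, 18), (72423, 19), (82761, 20), (142381, 21), (75797, 22), (175861, 23), (212019,
    24), (183146, 25), (208108, 26), (188021, 27), (204466, 28), (230017, 29), (263764, 30), (15213, 32), (9133, 33),
    (43202, 34), (64200, 35), (94010, 36)])]

theorem s1 : chkS dat rows ([] ++ [7]) [(2622, 1), (24796, 5), (24918, 7), (8534, 10), (17668, 12), (36195, 13),
    (46612, 14), (71409, 15), (46403, 16), (56551, 17), (82509, 18), (57713, 19), (81468, 20), (116352, 21), (86300,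
    22), (143236, 23), (180174, 24), (190383, 25), (164931, 26), (187760, 27), (157681, 28), (202888, 29), (231949,
    30), (2253, 31), (8534, 32), (23606, 33), (38420, 34), (47001, 35), (91627, 36)] 16225 24163872 = true := by
  decide +kernel

theorem t1 : allL (chkT dat rows [7] (24163872 * 1)) L1 = true := by decide +kernel

theorem f1 : finQ dat nu 1000000 (24163872 * 1) L1 = true := by decide +kernel

theorem all {G : Type*} [Group G] [Finite G] {T : TD G dat} (H : Hyq T rows nu) (S : Subgroup G)
    (hS : Group.IsSolvable S) : Tw S := by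
  by_cases h7 : 7 ∣ Nat.card S
  · have n5 : ¬ 5 ∣ Nat.card S :=
      fun h => H.excl hS 1 2561974272 (by norm_num) (by norm_num) (by decide +kernel) h h7
    have n11 : ¬ 11 ∣ Nat.card S :=
      fun h => H.excl hS 0 5822668800 (by norm_num) (by norm_num) (by decide +kernel) h7 h
    have n13 : ¬ 13 ∣ Nat.card S :=
      fun h => H.excl hS 0 4926873600 (by norm_num) (by norm_num) (by decide +kernel) h7 h
    have hx : Ex S [5, 11, 13] := Ex.cons n5 (Ex.cons n11 (Ex.cons n13 (Ex.nil S)))
    exact H.four hx (H.hall hS hx [] (a := 448345497600) (by decide +kernel) s0) t0 f0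
  · have hx : Ex S [7] := Ex.cons h7 (Ex.nil S)
    exact H.four hx (H.hall hS hx [] (a := 448345497600) (by decide +kernel) s1) t1 f1

open Cfsg.Agent.H714.S8.SuzFam Cfsg.Agent.TID.Suz in
theorem hyp : ∃ T : TD Spor.Suz dat, Hyq T rows nu := by
  have := finite_Suz
  refine ⟨td, (hyp0_of mass tab (by decide +kernel)).hyq fun c _ => ?_⟩
  have h1 : ∀ i < 37, nu (sw i) ≤ SZ.getD i 0 ∧ (i = 0 ∨ 2 * nu (sw i) ≤ SZ.getD i 0) := by decide +kernel
  obtain ⟨h2, h3⟩ := h1 _ (fam_lt c)
  have h4 := card_subgroup_dvd_card (centralizer ({c} : Set Spor.Suz))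
  rw [td_ty, SporadicRecognition.SuzOrder.card_Suz] at *
  rcases cent_mul c with h5 | h5
  · exact (Nat.mul_le_mul_left _ h2).trans h5.le
  rcases h3 with h3 | h3
  · rw [h3, show SZ.getD 0 0 = 135135 from rfl] at h5
    have h6 : Nat.card (centralizer ({c} : Set Spor.Suz)) = 6635520 := by omega
    rw [h6] at h4
    norm_num at h4
  · have h6 := (Nat.mul_le_mul_left _ h3).trans h5.le
    rw [mul_left_comm] at h6
    omega

end Cfsg.Agent.SB.SporL.Suz

namespace Cfsg.Agent.SB.SporL

open Cfsg

/-- **The row of `Suz`.** -/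
theorem row_Suz (K : Type*) [Group K] [IsSimpleGroup K] (h : Spor.IsoSuz K) : Row K := by
  obtain ⟨e⟩ := h
  obtain ⟨T, H⟩ := Suz.hyp
  have : Finite Spor.Suz := H714.S8.SuzFam.finite_Suz
  exact H.row_two e (by decide +kernel) S2074.result (Suz.all H)

end Cfsg.Agent.SB.SporL
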