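import Cfsg.Agent.SB.SporL.LP

/-!
# S5765, sporadic rows from the character tables: the rows (helper56)
-/

set_option autoImplicit false

namespace Cfsg.Agent.SB.SporL

open Subgroup Cfsg Cfsg.Agent.H786.FC Cfsg.Agent.SB.Spor Cfsg.Agent.TAB.Eng

theorem card_out {K K' : Type*} [Group K] [Group K'] (e : K ≃* K') : Nat.card (Out K) = Nat.card (Out K') := by
  show (InnG K).index = (InnG K').index
  rw [← congr_innG e]
  exact (Subgroup.index_map_equiv _ (MulAut.congr e)).symm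

variable {K G : Type*} [Group K] [IsSimpleGroup K] [Group G] {D : Dat} {T : TD G D} {rows : List (List ℤ)}

theorem Hyp0.nc [IsSimpleGroup G] (H : Hyp0 T rows) (hN : D.N % 2 = 0 ∧ D.N ≠ 2) : ¬ IsMulCommutative G :=
  nc_of fun hp => by
    rw [H.mass.1] at hp
    have := hp.eq_two_or_odd
    omega

theorem Hyp.nc (H : Hyp T rows) (e : K ≃* G) (hN : D.N % 2 = 0 ∧ D.N ≠ 2) : ¬ IsMulCommutative K :=
  (H.pull e).toHyp0.nc hN

theorem Hyp0.row_one (H : Hyp0 T rows) (e : K ≃* G) (hN : D.N % 2 = 0 ∧ D.N ≠ 2) (ho : Nat.card (Out G) = 1)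
    (h : ∀ S : Subgroup G, Group.IsSolvable S → Seven ⊤ S) : Row K :=
  haveI : IsSimpleGroup G := e.symm.isSimpleGroup
  Row.of_equiv e (row_of_seven (H.nc hN) ho h)

theorem Hyp0.row_two [Finite G] (H : Hyp0 T rows) (e : K ≃* G) (hN : D.N % 2 = 0 ∧ D.N ≠ 2)
    (ho : Nat.card (Out G) = 2) (h : ∀ S : Subgroup G, Group.IsSolvable S → Tw S) : Row K :=
  haveI : IsSimpleGroup G := e.symm.isSimpleGroup
  Row.of_equiv e (row_of_four (H.nc hN) ho.le h)

end Cfsg.Agent.SB.SporL
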